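import Mathlib

/-!
A simple group has no action resembling conjugation with all stabilizers maximal: this is the
group-theoretic core of the classification of extremely primitive groups up to socle type.
-/

set_option autoImplicit false

namespace Cfsg.Agent.Lie.ExtPrim

open scoped Pointwise

/-- A self-centralizing abelian Sylow subgroup excludes a non-abelian simple group. -/
theorem burnside_false {T : Type*} [Group T] [Finite T] [IsSimpleGroup T]
    (hna : ∃ x y : T, x * y ≠ y * x) {p : ℕ} [Fact p.Prime] (P : Sylow p T)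
    (hp : p ∣ Nat.card T)
    (hN : Subgroup.normalizer ((P : Subgroup T) : Set T) ≤ Subgroup.centralizer ((P : Subgroup T) : Set T)) :
    False := by
  have hc := MonoidHom.ker_transferSylow_isComplement' P hN
  rcases (inferInstance : (MonoidHom.transferSylow P hN).ker.Normal).eq_bot_or_eq_top with h | h
  · rw [h, Subgroup.isComplement'_bot_left] at hc
    obtain ⟨x, y, hxy⟩ := hna
    refine hxy ?_
    have hx : x ∈ Subgroup.centralizer ((P : Subgroup T) : Set T) :=
      hN (Subgroup.le_normalizer (by rw [hc]; trivial))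
    exact (Subgroup.mem_centralizer_iff.1 hx y (by rw [SetLike.mem_coe, hc]; trivial)).symm
  · rw [h, Subgroup.isComplement'_top_left] at hc
    exact P.ne_bot_of_dvd_card hp hc

/-- Commutation passes to elements with the same powers. -/
theorem exists_pow_eq_left {T : Type*} [Group T] [Finite T] {s t : T} (h : Commute s t)
    (hco : (orderOf s).Coprime (orderOf t)) : ∃ n : ℕ, (s * t) ^ n = s := by
  obtain ⟨k, hk, hk'⟩ : ∃ k : ℕ, k ≡ 1 [MOD orderOf s] ∧ k ≡ 0 [MOD orderOf t] :=
    ⟨_, (Nat.chineseRemainder hco 1 0).2.1, (Nat.chineseRemainder hco 1 0).2.2⟩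
  refine ⟨k, ?_⟩
  rw [h.mul_pow, (pow_eq_pow_iff_modEq).2 hk, pow_one, (pow_eq_pow_iff_modEq).2 hk', pow_zero, mul_one]

variable {T A : Type*} [Group T] [Finite T] [IsSimpleGroup T] [Group A] [MulAction A T]

variable (hna : ∃ x y : T, x * y ≠ y * x)
  (hpow : ∀ (g : A) (t : T) (n : ℕ), g • (t ^ n) = (g • t) ^ n)
  (hcomm : ∀ (g : A) (s t : T), Commute s t → Commute (g • s) (g • t))
  (hinner : ∀ u : T, ∃ g : A, ∀ x : T, g • x = u * x * u⁻¹)
  (hmax : ∀ t : T, t ≠ 1 → ∀ H : Subgroup A, MulAction.stabilizer A t ≤ H →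
    H = MulAction.stabilizer A t ∨ H = ⊤)

omit [Finite T] in
include hna in
theorem centralizer_ne_top {t : T} (ht : t ≠ 1) : Subgroup.centralizer ({t} : Set T) ≠ ⊤ := by
  intro h
  have hz : t ∈ Subgroup.center T := Subgroup.mem_center_iff.2 fun x => by
    have : x ∈ Subgroup.centralizer ({t} : Set T) := by rw [h]; trivial
    exact (Subgroup.mem_centralizer_singleton_iff.1 this)
  rcases (inferInstance : (Subgroup.center T).Normal).eq_bot_or_eq_top with h' | h'
  · exact ht (Subgroup.mem_bot.1 (h' ▸ hz))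
  · obtain ⟨x, y, hxy⟩ := hna
    exact hxy ((Subgroup.mem_center_iff.1 (h' ▸ Subgroup.mem_top y : y ∈ Subgroup.center T)) x)

include hna hinner hmax in
theorem stab_ne_top {t : T} (ht : t ≠ 1) : MulAction.stabilizer A t ≠ ⊤ := by
  intro h
  refine centralizer_ne_top hna ht (eq_top_iff.2 fun u _ => ?_)
  obtain ⟨g, hg⟩ := hinner u
  have : g • t = t := by
    have : g ∈ MulAction.stabilizer A t := h ▸ Subgroup.mem_top g
    exact this
  rw [hg, mul_inv_eq_iff_eq_mul] at this
  exact Subgroup.mem_centralizer_singleton_iff.2 this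

include hna hcomm hinner hmax in
/-- Centralizers are their own normalizers. -/
theorem normalizer_centralizer {t : T} (ht : t ≠ 1) :
    Subgroup.normalizer ((Subgroup.centralizer ({t} : Set T)) : Set T) ≤ Subgroup.centralizer {t} := by
  set K := Subgroup.centralizer ({t} : Set T) with hK
  intro u hu
  have hle : MulAction.stabilizer A t ≤ MulAction.stabilizer A (K : Set T) := by
    intro g hg
    rw [MulAction.mem_stabilizer_iff] at hg
    have hsub : ∀ h : A, h • t = t → ∀ x ∈ K, h • x ∈ K := fun h ht' x hx => by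
      have := hcomm h x t (Subgroup.mem_centralizer_singleton_iff.1 hx)
      rw [ht'] at this
      exact Subgroup.mem_centralizer_singleton_iff.2 this
    refine MulAction.mem_stabilizer_iff.2 (Set.ext fun x => ⟨?_, fun hx => ?_⟩)
    · rintro ⟨y, hy, rfl⟩; exact hsub g hg y hy
    · exact ⟨g⁻¹ • x, hsub g⁻¹ (inv_smul_eq_iff.2 hg.symm) x hx, smul_inv_smul g x⟩
  rcases hmax t ht _ hle with h | h
  · obtain ⟨g, hg⟩ := hinner u
    have hgK : g ∈ MulAction.stabilizer A (K : Set T) := by
      refine MulAction.mem_stabilizer_iff.2 (Set.ext fun x => ⟨?_, fun hx => ?_⟩)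
      · rintro ⟨y, hy, rfl⟩
        show g • y ∈ K
        rw [hg]
        exact (Subgroup.mem_normalizer_iff.1 hu y).1 hy
      · refine ⟨u⁻¹ * x * u, ?_, ?_⟩
        · exact (Subgroup.mem_normalizer_iff.1 hu _).2 (by simpa [mul_assoc] using hx)
        · show g • (u⁻¹ * x * u) = x
          rw [hg]; group
    rw [h, MulAction.mem_stabilizer_iff, hg, mul_inv_eq_iff_eq_mul] at hgK
    exact Subgroup.mem_centralizer_singleton_iff.2 hgK
  · exfalso
    have hn : K.Normal := ⟨fun x hx v => by
      obtain ⟨g, hg⟩ := hinner v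
      have hm : g • (K : Set T) = K := MulAction.mem_stabilizer_iff.1 (h ▸ Subgroup.mem_top g)
      rw [← hg]
      rw [← SetLike.mem_coe, ← hm]
      exact Set.smul_mem_smul_set hx⟩
    rcases hn.eq_bot_or_eq_top with h' | h'
    · exact ht (Subgroup.mem_bot.1 (h' ▸ (Subgroup.mem_centralizer_singleton_iff.2 rfl : t ∈ K)))
    · exact centralizer_ne_top hna ht h'

include hna hpow hinner hmax in
/-- Commuting elements of coprime orders have the same centralizer. -/
theorem centralizer_eq_of_coprime {s t : T} (hs : s ≠ 1) (ht : t ≠ 1) (h : Commute s t)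
    (hco : (orderOf s).Coprime (orderOf t)) :
    Subgroup.centralizer ({s} : Set T) ≤ Subgroup.centralizer {t} := by
  obtain ⟨n, hn⟩ := exists_pow_eq_left h hco
  obtain ⟨m, hm⟩ := exists_pow_eq_left h.symm hco.symm
  rw [← h.eq] at hm
  have hst : s * t ≠ 1 := fun e => hs (by rw [← hn, e, one_pow])
  have h1 : MulAction.stabilizer A (s * t) ≤ MulAction.stabilizer A s := fun g hg => by
    rw [MulAction.mem_stabilizer_iff] at hg ⊢
    rw [← hn, hpow, hg]
  have h2 := (hmax _ hst _ h1).resolve_right (stab_ne_top hna hinner hmax hs)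
  intro u hu
  obtain ⟨g, hg⟩ := hinner u
  have hg' : g ∈ MulAction.stabilizer A (s * t) := by
    rw [← h2, MulAction.mem_stabilizer_iff, hg, mul_inv_eq_iff_eq_mul]
    exact Subgroup.mem_centralizer_singleton_iff.1 hu
  have hc : Commute u (s * t) := mul_inv_eq_iff_eq_mul.1 ((hg _).symm.trans hg')
  rw [Subgroup.mem_centralizer_singleton_iff, ← hm]
  exact hc.pow_right m

omit [IsSimpleGroup T] in
/-- A group all of whose elements of prime power order are central is abelian. -/
theorem eq_center_of_ppow {K : Subgroup T}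
    (h : ∀ p : ℕ, p.Prime → ∀ u ∈ K, (∃ k, orderOf u = p ^ k) → ∀ v ∈ K, u * v = v * u) :
    ∀ u ∈ K, ∀ v ∈ K, u * v = v * u := by
  have htop : Subgroup.center K = ⊤ := by
    refine Subgroup.eq_top_of_card_eq _ (Nat.dvd_antisymm (Subgroup.card_subgroup_dvd_card _) ?_)
    refine (Nat.dvd_iff_prime_pow_dvd_dvd _ _).2 fun p k hp hpk => ?_
    haveI := Fact.mk hp
    obtain ⟨Q⟩ : Nonempty (Sylow p K) := inferInstance
    have hQ : (Q : Subgroup K) ≤ Subgroup.center K := by
      intro x hx
      obtain ⟨k, hk⟩ := Q.isPGroup'.exists_orderOf_eq_pow ⟨x, hx⟩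
      refine Subgroup.mem_center_iff.2 fun v => Subtype.ext ?_
      refine (h p hp x x.2 ⟨k, ?_⟩ v v.2).symm
      rwa [Subgroup.orderOf_mk, ← Subgroup.orderOf_coe] at hk
    refine dvd_trans ?_ (Subgroup.card_dvd_of_le hQ)
    rw [Sylow.card_eq_multiplicity]
    exact pow_dvd_pow p ((Nat.Prime.pow_dvd_iff_le_factorization hp Nat.card_pos.ne').1 hpk)
  intro u hu v hv
  have hv' : (⟨v, hv⟩ : K) ∈ Subgroup.center K := htop ▸ Subgroup.mem_top _
  exact congrArg Subtype.val (Subgroup.mem_center_iff.1 hv' ⟨u, hu⟩)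

include hna hpow hcomm hinner hmax in
theorem centralizer_isPGroup {p : ℕ} (hp : p.Prime) {t : T} (ht : orderOf t = p) :
    IsPGroup p (Subgroup.centralizer ({t} : Set T)) := by
  haveI := Fact.mk hp
  set K := Subgroup.centralizer ({t} : Set T) with hK
  have ht1 : t ≠ 1 := fun e => hp.one_lt.ne' (by rw [← ht, e, orderOf_one])
  by_contra hnp
  obtain ⟨q, hq, hqp, hqK⟩ : ∃ q, q.Prime ∧ q ≠ p ∧ q ∣ Nat.card K := by
    by_contra hc
    push Not at hc
    refine hnp (IsPGroup.of_card (n := (Nat.card K).primeFactorsList.length) ?_)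
    refine Nat.eq_prime_pow_of_unique_prime_dvd Nat.card_pos.ne' fun {d} hd hdK => ?_
    by_contra hne
    exact hc d hd hne hdK
  haveI := Fact.mk hq
  obtain ⟨⟨s, hsK⟩, hs⟩ := exists_prime_orderOf_dvd_card' q hqK
  rw [Subgroup.orderOf_mk] at hs
  have hs1 : s ≠ 1 := fun e => hq.one_lt.ne' (by rw [← hs, e, orderOf_one])
  have hcst : Commute s t := Subgroup.mem_centralizer_singleton_iff.1 hsK
  have eqst : ∀ u ∈ K, u ≠ 1 → (orderOf u).Coprime (orderOf t) →
      Subgroup.centralizer ({u} : Set T) = K := fun u hu h1 hco =>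
    le_antisymm
      (centralizer_eq_of_coprime hna hpow hinner hmax h1 ht1 (Subgroup.mem_centralizer_singleton_iff.1 hu) hco)
      (centralizer_eq_of_coprime hna hpow hinner hmax ht1 h1
        (Subgroup.mem_centralizer_singleton_iff.1 hu).symm hco.symm)
  have hCs : Subgroup.centralizer ({s} : Set T) = K :=
    eqst s hsK hs1 (by rw [hs, ht]; exact (Nat.coprime_primes hq hp).2 hqp)
  have hab : ∀ u ∈ K, ∀ v ∈ K, u * v = v * u := by
    refine eq_center_of_ppow fun r hr u hu ⟨k, hk⟩ v hv => ?_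
    rcases eq_or_ne u 1 with rfl | hu1
    · simp
    have hCu : K ≤ Subgroup.centralizer ({u} : Set T) := by
      rcases eq_or_ne r p with rfl | hrp
      · rw [← hCs] at hu ⊢
        refine centralizer_eq_of_coprime hna hpow hinner hmax hs1 hu1
          (Subgroup.mem_centralizer_singleton_iff.1 hu).symm ?_
        rw [hs, hk]
        exact Nat.Coprime.pow_right _ ((Nat.coprime_primes hq hr).2 hqp)
      · refine (eqst u hu hu1 ?_).ge
        rw [hk, ht]
        exact Nat.Coprime.pow_left _ ((Nat.coprime_primes hr hp).2 hrp)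
    exact (Subgroup.mem_centralizer_singleton_iff.1 (hCu hv)).symm
  have hZ : IsPGroup q (Subgroup.zpowers s) :=
    IsPGroup.of_card (n := 1) (by rw [Nat.card_zpowers, hs, pow_one])
  obtain ⟨Q, hQ⟩ := hZ.exists_le_sylow
  have hsQ : s ∈ (Q : Subgroup T) := hQ (Subgroup.mem_zpowers s)
  haveI : Nontrivial (Q : Subgroup T) := ⟨⟨s, hsQ⟩, 1, fun e => hs1 (congrArg Subtype.val e)⟩
  obtain ⟨z, hz, hz1⟩ :=
    (Subgroup.nontrivial_iff_exists_ne_one _).1 (Q.isPGroup'.center_nontrivial)
  have hzK : (z : T) ∈ K := by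
    rw [← hCs, Subgroup.mem_centralizer_singleton_iff]
    exact (congrArg Subtype.val (Subgroup.mem_center_iff.1 hz ⟨s, hsQ⟩)).symm
  have hz1' : (z : T) ≠ 1 := fun e => hz1 (Subtype.ext e)
  obtain ⟨k, hk⟩ := Q.isPGroup'.exists_orderOf_eq_pow z
  have hQK : (Q : Subgroup T) ≤ K := by
    intro x hx
    rw [← eqst _ hzK hz1' (by
      rw [Subgroup.orderOf_coe, hk, ht]
      exact Nat.Coprime.pow_left _ ((Nat.coprime_primes hq hp).2 hqp)),
      Subgroup.mem_centralizer_singleton_iff]
    exact congrArg Subtype.val (Subgroup.mem_center_iff.1 hz ⟨x, hx⟩)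
  have hCQ : Subgroup.centralizer ((Q : Subgroup T) : Set T) = K := by
    refine le_antisymm (fun x hx => ?_) fun x hx => Subgroup.mem_centralizer_iff.2 fun y hy => hab y (hQK hy) x hx
    rw [← hCs, Subgroup.mem_centralizer_singleton_iff]
    exact (Subgroup.mem_centralizer_iff.1 hx s hsQ).symm
  refine burnside_false hna Q ((hs ▸ orderOf_dvd_natCard s : q ∣ Nat.card T)) ?_
  intro u hu
  rw [hCQ]
  refine normalizer_centralizer hna hcomm hinner hmax ht1 ?_
  rw [← hK, ← hCQ]
  refine Subgroup.mem_normalizer_iff.2 fun x => ?_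
  simp only [Subgroup.mem_centralizer_iff]
  constructor
  · intro hx y hy
    have hy' : u⁻¹ * y * u ∈ (Q : Subgroup T) :=
      (Subgroup.mem_normalizer_iff.1 hu _).2 (by simpa [mul_assoc] using SetLike.mem_coe.1 hy)
    calc y * (u * x * u⁻¹) = u * ((u⁻¹ * y * u) * x) * u⁻¹ := by group
      _ = u * (x * (u⁻¹ * y * u)) * u⁻¹ := by rw [hx _ hy']
      _ = _ := by group
  · intro hx y hy
    have hy' := (Subgroup.mem_normalizer_iff.1 hu _).1 hy
    have := hx _ hy'
    calc y * x = u⁻¹ * ((u * y * u⁻¹) * (u * x * u⁻¹)) * u := by group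
      _ = u⁻¹ * ((u * x * u⁻¹) * (u * y * u⁻¹)) * u := by rw [this]
      _ = _ := by group

include hna hpow hcomm hinner hmax in
theorem centralizer_sylow {t : T} (ht : t ≠ 1) :
    ∃ (p : ℕ) (_ : p.Prime) (P : Sylow p T), Subgroup.centralizer ({t} : Set T) = (P : Subgroup T) ∧
      p ∣ Nat.card T := by
  have h1 : orderOf t ≠ 1 := fun e => ht (orderOf_eq_one_iff.1 e)
  obtain ⟨p, hp, hpt⟩ := Nat.exists_prime_and_dvd h1
  haveI := Fact.mk hp
  obtain ⟨d, hd⟩ := hpt
  have hd0 : d ≠ 0 := by rintro rfl; exact (orderOf_pos t).ne' (by simpa using hd)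
  have hord : orderOf (t ^ d) = p := by
    rw [orderOf_pow' t hd0, hd, Nat.gcd_mul_left_left, Nat.mul_div_cancel _ (Nat.pos_of_ne_zero hd0)]
  have hle : Subgroup.centralizer ({t} : Set T) ≤ Subgroup.centralizer {t ^ d} := fun x hx =>
    Subgroup.mem_centralizer_singleton_iff.2
      (Commute.pow_right (Subgroup.mem_centralizer_singleton_iff.1 hx) d)
  have hK : IsPGroup p (Subgroup.centralizer ({t} : Set T)) :=
    (centralizer_isPGroup hna hpow hcomm hinner hmax hp hord).to_le hle
  obtain ⟨P, hP⟩ := hK.exists_le_sylow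
  refine ⟨p, hp, P, ?_, hord ▸ orderOf_dvd_natCard _⟩
  by_contra hne
  haveI : Group.IsNilpotent (P : Subgroup T) := P.isPGroup'.isNilpotent
  have hlt : (Subgroup.centralizer ({t} : Set T)).subgroupOf (P : Subgroup T) < ⊤ := lt_top_iff_ne_top.2 fun e =>
    hne (le_antisymm hP (Subgroup.subgroupOf_eq_top.1 e))
  obtain ⟨u, hu, hu'⟩ := SetLike.exists_of_lt (Group.normalizerCondition_of_isNilpotent _ hlt)
  refine hu' (Subgroup.mem_subgroupOf.2 (normalizer_centralizer hna hcomm hinner hmax ht ?_))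
  refine Subgroup.mem_normalizer_iff.2 fun x => ⟨fun hx => ?_, fun hx => ?_⟩
  · exact (Subgroup.mem_normalizer_iff.1 hu ⟨x, hP hx⟩).1 hx
  · have hxP : x ∈ (P : Subgroup T) := by
      have := (P : Subgroup T).mul_mem ((P : Subgroup T).mul_mem ((P : Subgroup T).inv_mem u.2) (hP hx)) u.2
      simpa [mul_assoc] using this
    exact (Subgroup.mem_normalizer_iff.1 hu ⟨x, hxP⟩).2 hx

theorem sum_inv_sq_le (N : ℕ) (hN : 1 ≤ N) :
    (∑ i ∈ Finset.Icc 2 N, (1 : ℚ) / (i : ℚ) ^ 2) ≤ 1 - 1 / N := by
  induction N, hN using Nat.le_induction with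
  | base => simp
  | succ m hm ih =>
    rw [Finset.sum_Icc_succ_top (by omega)]
    have hm' : (1 : ℚ) ≤ m := by exact_mod_cast hm
    have key : (1 : ℚ) / ((m + 1 : ℕ) : ℚ) ^ 2 ≤ 1 / m - 1 / ((m + 1 : ℕ) : ℚ) := by
      push_cast
      rw [div_sub_div _ _ (by positivity) (by positivity), div_le_div_iff₀ (by positivity) (by positivity)]
      nlinarith
    linarith

include hna hpow hcomm hinner hmax in
theorem sylow_facts {p : ℕ} [Fact p.Prime] (hp : p ∣ Nat.card T) (P : Sylow p T) :
    Nat.card (Sylow p T) * Nat.card (P : Subgroup T) = Nat.card T ∧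
      p ^ 2 * Nat.card (Subgroup.center (P : Subgroup T)) ≤ Nat.card (P : Subgroup T) ∧
      ∀ z ∈ Subgroup.center (P : Subgroup T), z ≠ 1 →
        Subgroup.centralizer ({(z : T)} : Set T) = (P : Subgroup T) := by
  haveI : Nontrivial (P : Subgroup T) := (Subgroup.nontrivial_iff_ne_bot _).2 (P.ne_bot_of_dvd_card hp)
  have hC : ∀ z ∈ Subgroup.center (P : Subgroup T), z ≠ 1 →
      Subgroup.centralizer ({(z : T)} : Set T) = (P : Subgroup T) := by
    intro z hz hz1
    have hle : (P : Subgroup T) ≤ Subgroup.centralizer ({(z : T)} : Set T) := fun x hx =>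
      Subgroup.mem_centralizer_singleton_iff.2 (congrArg Subtype.val (Subgroup.mem_center_iff.1 hz ⟨x, hx⟩))
    obtain ⟨q, hq, Q, hQ, -⟩ := centralizer_sylow hna hpow hcomm hinner hmax (t := (z : T))
      (fun e => hz1 (Subtype.ext e))
    haveI := Fact.mk hq
    have hqp : q = p := by
      by_contra hne
      obtain ⟨k, hk⟩ := P.isPGroup'.exists_card_eq
      obtain ⟨l, hl⟩ := Q.isPGroup'.exists_card_eq
      have hd := Subgroup.card_dvd_of_le (hle.trans hQ.le)
      have hco := ((Nat.coprime_primes (Fact.out : p.Prime) hq).2 (Ne.symm hne)).pow k l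
      rw [hk, hl] at hd
      have h1 := Nat.Coprime.eq_one_of_dvd hco hd
      exact absurd (hk.trans h1) (Finite.one_lt_card).ne'
    subst hqp
    rw [hQ]
    exact P.is_maximal' Q.isPGroup' (hle.trans hQ.le)
  obtain ⟨z, hz, hz1⟩ := (Subgroup.nontrivial_iff_exists_ne_one _).1 (P.isPGroup'.center_nontrivial)
  have hz1' : (z : T) ≠ 1 := fun e => hz1 (Subtype.ext e)
  have hN : Subgroup.normalizer ((P : Subgroup T) : Set T) = P := by
    refine le_antisymm ?_ Subgroup.le_normalizer
    have := normalizer_centralizer hna hcomm hinner hmax hz1'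
    rwa [hC z hz hz1] at this
  refine ⟨?_, ?_, hC⟩
  · rw [Sylow.card_eq_index_normalizer P]
    erw [hN]
    rw [Subgroup.index_mul_card]
  · set Z := Subgroup.center (P : Subgroup T)
    have hnc : ¬ ∀ x y : (P : Subgroup T), x * y = y * x := fun hc => burnside_false hna P hp
      (hN.trans_le fun x hx => Subgroup.mem_centralizer_iff.2 fun y hy =>
        congrArg Subtype.val (hc ⟨y, hy⟩ ⟨x, hx⟩))
    obtain ⟨k, hk⟩ := P.isPGroup'.index Z
    have hk2 : 2 ≤ k := by
      by_contra hlt
      refine hnc ?_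
      haveI : IsCyclic ((P : Subgroup T) ⧸ Z) := by
        rcases (show k = 0 ∨ k = 1 by omega) with rfl | rfl
        · haveI : Subsingleton ((P : Subgroup T) ⧸ Z) :=
            (Nat.card_eq_one_iff_unique.1 (by rw [← Subgroup.index_eq_card, hk, pow_zero])).1
          exact isCyclic_of_subsingleton
        · exact isCyclic_of_prime_card (p := p) (by rw [← Subgroup.index_eq_card, hk, pow_one])
      exact fun x y => commutative_of_cyclic_center_quotient (QuotientGroup.mk' Z)
        (QuotientGroup.ker_mk' Z).le x y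
    calc p ^ 2 * Nat.card Z ≤ p ^ k * Nat.card Z :=
          Nat.mul_le_mul_right _ (Nat.pow_le_pow_right (Fact.out : p.Prime).pos hk2)
      _ = _ := by rw [← hk, Subgroup.index_mul_card]

include hna hpow hcomm hinner hmax in
/-- There is no such action. -/
theorem no_action : False := by
  classical
  haveI := Fintype.ofFinite T
  let Zs : ℕ → Finset T := fun p => Finset.univ.filter fun t => t ≠ 1 ∧
    ∃ P : Sylow p T, Subgroup.centralizer ({t} : Set T) = (P : Subgroup T)
  set S := (Nat.card T).primeFactors with hS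
  have hcover : Finset.univ.erase (1 : T) ⊆ S.biUnion Zs := by
    intro t ht
    obtain ⟨p, hp, P, hP, hdvd⟩ :=
      centralizer_sylow hna hpow hcomm hinner hmax (Finset.ne_of_mem_erase ht)
    refine Finset.mem_biUnion.2 ⟨p, Nat.mem_primeFactors.2 ⟨hp, hdvd, Nat.card_pos.ne'⟩, ?_⟩
    exact Finset.mem_filter.2 ⟨Finset.mem_univ _, Finset.ne_of_mem_erase ht, P, hP⟩
  have hbound : ∀ p ∈ S, ((Zs p).card : ℚ) < Nat.card T / (p : ℚ) ^ 2 := by
    intro p hpS
    obtain ⟨hp, hdvd, -⟩ := Nat.mem_primeFactors.1 hpS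
    haveI := Fact.mk hp
    letI := Fintype.ofFinite (Sylow p T)
    obtain ⟨P₀⟩ : Nonempty (Sylow p T) := inferInstance
    have hpos : 0 < p ^ 2 := pow_pos hp.pos 2
    let ZP : Sylow p T → Finset T := fun P => Finset.univ.filter fun t => t ≠ 1 ∧
      Subgroup.centralizer ({t} : Set T) = (P : Subgroup T)
    have hsub : Zs p ⊆ Finset.univ.biUnion ZP := fun t ht => by
      obtain ⟨-, h1, P, hP⟩ := by simpa only [Zs, Finset.mem_filter] using ht
      exact Finset.mem_biUnion.2 ⟨P, Finset.mem_univ _, Finset.mem_filter.2 ⟨Finset.mem_univ _, h1, hP⟩⟩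
    have hZP : ∀ P : Sylow p T, p ^ 2 * ((ZP P).card + 1) ≤ Nat.card (P₀ : Subgroup T) := by
      intro P
      obtain ⟨-, h2, -⟩ := sylow_facts hna hpow hcomm hinner hmax hdvd P
      rw [Sylow.card_eq_multiplicity P₀, ← Sylow.card_eq_multiplicity P]
      refine le_trans (Nat.mul_le_mul_left _ ?_) h2
      set Z := (Subgroup.center (P : Subgroup T)).map (P : Subgroup T).subtype with hZ
      haveI := Fintype.ofFinite Z
      have hcard : Nat.card Z = Nat.card (Subgroup.center (P : Subgroup T)) :=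
        Subgroup.card_map_of_injective (P : Subgroup T).subtype_injective
      rw [← hcard]
      have h1 : insert (1 : T) (ZP P) ⊆ (Z : Set T).toFinset := by
        intro t ht
        rw [Set.mem_toFinset, SetLike.mem_coe]
        rcases Finset.mem_insert.1 ht with rfl | ht
        · exact Z.one_mem
        obtain ⟨-, -, hP⟩ := Finset.mem_filter.1 ht
        have htP : t ∈ (P : Subgroup T) := hP ▸ Subgroup.mem_centralizer_singleton_iff.2 rfl
        refine ⟨⟨t, htP⟩, Subgroup.mem_center_iff.2 fun y => Subtype.ext ?_, rfl⟩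
        exact Subgroup.mem_centralizer_singleton_iff.1 (hP.ge y.2)
      have := Finset.card_le_card h1
      rw [Finset.card_insert_of_notMem (by simp [ZP])] at this
      rwa [Set.toFinset_card, ← Nat.card_eq_fintype_card] at this
    have hcnt : p ^ 2 * (Zs p).card < Nat.card T := by
      calc p ^ 2 * (Zs p).card ≤ p ^ 2 * ∑ P, (ZP P).card :=
            Nat.mul_le_mul_left _ ((Finset.card_le_card hsub).trans Finset.card_biUnion_le)
        _ < ∑ _P : Sylow p T, Nat.card (P₀ : Subgroup T) := by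
            rw [Finset.mul_sum]
            refine Finset.sum_lt_sum_of_nonempty Finset.univ_nonempty fun P _ => ?_
            have := hZP P
            rw [mul_add, mul_one] at this
            omega
        _ = Nat.card T := by
            rw [Finset.sum_const, Finset.card_univ, ← Nat.card_eq_fintype_card, smul_eq_mul]
            exact (sylow_facts hna hpow hcomm hinner hmax hdvd P₀).1
    rw [lt_div_iff₀ (by exact_mod_cast hpos)]
    calc ((Zs p).card : ℚ) * (p : ℚ) ^ 2 = ((p ^ 2 * (Zs p).card : ℕ) : ℚ) := by push_cast; ring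
      _ < _ := by exact_mod_cast hcnt
  have hne : S.Nonempty := by
    rw [hS, Nat.nonempty_primeFactors]
    exact Finite.one_lt_card
  have h1 : (Nat.card T : ℚ) - 1 ≤ ∑ p ∈ S, ((Zs p).card : ℚ) := by
    have := (Finset.card_le_card hcover).trans Finset.card_biUnion_le
    rw [Finset.card_erase_of_mem (Finset.mem_univ _), Finset.card_univ, ← Nat.card_eq_fintype_card] at this
    have hT : 1 ≤ Nat.card T := Nat.card_pos
    have h' : ((Nat.card T - 1 : ℕ) : ℚ) ≤ ((∑ p ∈ S, (Zs p).card : ℕ) : ℚ) := by exact_mod_cast this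
    rw [Nat.cast_sub hT] at h'
    push_cast at h'
    exact h'
  have h2 : ∑ p ∈ S, ((Zs p).card : ℚ) < ∑ p ∈ S, (Nat.card T : ℚ) / (p : ℚ) ^ 2 :=
    Finset.sum_lt_sum_of_nonempty hne hbound
  have hsub : S ⊆ Finset.Icc 2 (Nat.card T) := fun p hp => by
    obtain ⟨hp, hdvd, -⟩ := Nat.mem_primeFactors.1 hp
    exact Finset.mem_Icc.2 ⟨hp.two_le, Nat.le_of_dvd Nat.card_pos hdvd⟩
  have h3 : ∑ p ∈ S, (Nat.card T : ℚ) / (p : ℚ) ^ 2 ≤ (Nat.card T : ℚ) * (1 - 1 / Nat.card T) := by
    calc _ ≤ ∑ p ∈ Finset.Icc 2 (Nat.card T), (Nat.card T : ℚ) / (p : ℚ) ^ 2 :=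
          Finset.sum_le_sum_of_subset_of_nonneg hsub fun i _ _ => by positivity
      _ = (Nat.card T : ℚ) * ∑ p ∈ Finset.Icc 2 (Nat.card T), (1 : ℚ) / (p : ℚ) ^ 2 := by
          rw [Finset.mul_sum]; exact Finset.sum_congr rfl fun i _ => by ring
      _ ≤ _ := mul_le_mul_of_nonneg_left (sum_inv_sq_le _ Nat.card_pos) (by positivity)
  have hT : (Nat.card T : ℚ) ≠ 0 := by exact_mod_cast Nat.card_pos.ne'
  rw [mul_sub, mul_one, mul_one_div_cancel hT] at h3
  linarith

end Cfsg.Agent.Lie.ExtPrim
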