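import Cfsg.Agent.Lib.Lie.ExtPrim.Action

/-!
An extremely primitive group is of affine type or almost simple.
-/

set_option autoImplicit false
set_option maxHeartbeats 1600000

namespace Cfsg.Agent.Lie.ExtPrim

open MulAction

variable {G : Type*} [Group G] [Finite G] {Ω : Type*} [MulAction G Ω]

/-- The point stabilizer is maximal and so is each two-point stabilizer in it. -/
structure Setup (G : Type*) [Group G] {Ω : Type*} [MulAction G Ω] (a : Ω) : Prop where
  coatom : IsCoatom (stabilizer G a)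
  trans : ∀ N : Subgroup G, N.Normal → N ≠ ⊥ → ∀ x : Ω, ∃ n ∈ N, n • a = x
  faith : ∀ g : G, (∀ x : Ω, g • x = x) → g = 1
  orbit : ∀ (b : Ω) (H : Subgroup G), stabilizer G a ⊓ stabilizer G b ≤ H → H ≤ stabilizer G a →
    H ≠ stabilizer G a → H ≤ stabilizer G b

theorem mem_stab {a : Ω} {g : G} : g ∈ stabilizer G a ↔ g • a = a := Iff.rfl

theorem mem_normalizer_of_conj {H : Subgroup G} {g : G} (h : ∀ x ∈ H, g * x * g⁻¹ ∈ H) :
    g ∈ Subgroup.normalizer (H : Set G) := by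
  have hmap : H.map (MulAut.conj g).toMonoidHom = H := by
    refine Subgroup.eq_of_le_of_card_ge ?_ ?_
    · rintro _ ⟨x, hx, rfl⟩; exact h x hx
    · rw [Subgroup.card_map_of_injective (MulAut.conj g).injective]
  refine Subgroup.mem_normalizer_iff.2 fun x => ⟨h x, fun hx => ?_⟩
  rw [← hmap] at hx
  obtain ⟨y, hy, he⟩ := hx
  obtain rfl : y = x := by
    have he' : g * y * g⁻¹ = g * x * g⁻¹ := he
    exact mul_left_cancel (mul_right_cancel he')
  exact hy

/-- No orbit equivalent to the regular or diagonal situation. -/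
theorem diag_false {a : Ω} (S : Setup G a) (T : Subgroup G) [IsSimpleGroup T]
    (hna : ∃ x ∈ T, ∃ y ∈ T, x * y ≠ y * x) (hT0 : ∀ x ∈ T, x • a = a → x = 1)
    (hsurj : ∀ x : Ω, ∃ m ∈ T, m • a = x)
    (hcase : ∀ g : G, g • a = a → (∀ m ∈ T, g * m * g⁻¹ ∈ T) ∨ (∀ m ∈ T, ∀ t ∈ T, Commute (g * m * g⁻¹) t))
    (hinner : ∀ u ∈ T, ∃ g : G, g • a = a ∧ ∀ m ∈ T, g * m * g⁻¹ = u * m * u⁻¹) : False := by
  have hinj : ∀ x y : T, (x : G) • a = (y : G) • a → x = y := fun x y h => by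
    have := hT0 ((x : G)⁻¹ * y) (T.mul_mem (T.inv_mem x.2) y.2) (by rw [mul_smul, ← h, inv_smul_smul])
    exact Subtype.ext (inv_mul_eq_one.1 this)
  let e : T ≃ Ω := Equiv.ofBijective (fun m => (m : G) • a)
    ⟨hinj, fun x => by obtain ⟨m, hm, rfl⟩ := hsurj x; exact ⟨⟨m, hm⟩, rfl⟩⟩
  letI act : MulAction (stabilizer G a) T := e.mulAction _
  have he : ∀ (g : stabilizer G a) (m : T), ((g • m : T) : G) • a = ((g : G) * (m : G) * (g : G)⁻¹) • a := by
    intro g m
    have h1 : e (g • m) = g • e m := e.apply_symm_apply _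
    show e (g • m) = _
    rw [h1, mul_smul, inv_smul_eq_iff.2 g.2.symm, mul_smul]
    rfl
  -- characterisation of the image
  have key : ∀ (g : stabilizer G a) (m y : T), ((g : G) * (m : G) * (g : G)⁻¹) • a = (y : G) • a → g • m = y :=
    fun g m y h => hinj _ _ ((he g m).trans h)
  have hr : ∀ (g : stabilizer G a) (m : T),
      (((g • m : T) : G)⁻¹ * ((g : G) * m * (g : G)⁻¹)) • a = a := fun g m => by
    rw [mul_smul, ← he, inv_smul_smul]
  have hT : ∀ (g : stabilizer G a), (∀ m ∈ T, (g : G) * m * (g : G)⁻¹ ∈ T) →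
      ∀ m : T, ((g • m : T) : G) = (g : G) * m * (g : G)⁻¹ := fun g hg m => by
    rw [key g m ⟨_, hg m m.2⟩ rfl]
  refine no_action (T := T) (A := stabilizer G a) ?_ ?_ ?_ ?_ ?_
  · obtain ⟨x, hx, y, hy, hxy⟩ := hna
    exact ⟨⟨x, hx⟩, ⟨y, hy⟩, fun h => hxy (congrArg Subtype.val h)⟩
  · intro g t n
    rcases hcase g g.2 with hg | hg
    · refine Subtype.ext ?_
      rw [Subgroup.coe_pow, hT g hg, hT g hg, Subgroup.coe_pow, conj_pow]
    · refine key g _ _ ?_
      have hc : Commute ((g : G) * t * (g : G)⁻¹) ((g • t : T) : G) := hg t t.2 _ (g • t).2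
      have h0 := (stabilizer G a).pow_mem (mem_stab.2 (hr g t)) n
      rw [hc.symm.inv_left.mul_pow, mem_stab, mul_smul, inv_pow, inv_smul_eq_iff, conj_pow] at h0
      rw [Subgroup.coe_pow, Subgroup.coe_pow]
      exact h0
  · intro g s t hst
    have hst' : Commute ((g : G) * s * (g : G)⁻¹) ((g : G) * t * (g : G)⁻¹) :=
      (hst.map T.subtype).map (MulAut.conj (g : G))
    refine Subtype.ext ?_
    rw [Subgroup.coe_mul, Subgroup.coe_mul]
    rcases hcase g g.2 with hg | hg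
    · rw [hT g hg, hT g hg]
      exact hst'.eq
    · have h1 := mem_stab.2 (hr g s)
      have h2 := mem_stab.2 (hr g t)
      set σ := ((g • s : T) : G) with hσ
      set τ := ((g • t : T) : G) with hτ
      set n₁ := (g : G) * s * (g : G)⁻¹
      set n₂ := (g : G) * t * (g : G)⁻¹
      have hmem := (stabilizer G a).mul_mem ((stabilizer G a).mul_mem h1 h2)
        ((stabilizer G a).mul_mem ((stabilizer G a).inv_mem h1) ((stabilizer G a).inv_mem h2))
      have c1 : ∀ x ∈ T, Commute n₁ x := hg s s.2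
      have c2 : ∀ x ∈ T, Commute n₂ x := hg t t.2
      have e1 : σ⁻¹ * n₁ * (τ⁻¹ * n₂) = (σ⁻¹ * τ⁻¹) * (n₁ * n₂) :=
        (c1 _ (T.inv_mem (g • t).2)).mul_mul_mul_comm _ _
      have e2a : (σ⁻¹ * n₁)⁻¹ = σ * n₁⁻¹ :=
        (mul_inv_rev _ _).trans (by rw [inv_inv]; exact (c1 _ (g • s).2).inv_left.eq)
      have e2b : (τ⁻¹ * n₂)⁻¹ = τ * n₂⁻¹ :=
        (mul_inv_rev _ _).trans (by rw [inv_inv]; exact (c2 _ (g • t).2).inv_left.eq)
      have e2 : (σ⁻¹ * n₁)⁻¹ * (τ⁻¹ * n₂)⁻¹ = (σ * τ) * (n₁⁻¹ * n₂⁻¹) := by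
        rw [e2a, e2b]
        exact (c1 _ (g • t).2).inv_left.mul_mul_mul_comm _ _
      have e3 : σ⁻¹ * n₁ * (τ⁻¹ * n₂) * ((σ⁻¹ * n₁)⁻¹ * (τ⁻¹ * n₂)⁻¹) = σ⁻¹ * τ⁻¹ * σ * τ := by
        rw [e1, e2]
        have c12 : Commute (n₁ * n₂) (σ * τ) :=
          ((c1 _ (T.mul_mem (g • s).2 (g • t).2))).mul_left (c2 _ (T.mul_mem (g • s).2 (g • t).2))
        rw [c12.mul_mul_mul_comm]
        rw [show n₁ * n₂ * (n₁⁻¹ * n₂⁻¹) = 1 by rw [hst'.eq]; group, mul_one]
        group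
      rw [e3] at hmem
      have := hT0 _ (T.mul_mem (T.mul_mem (T.mul_mem (T.inv_mem (g • s).2) (T.inv_mem (g • t).2))
        (g • s).2) (g • t).2) hmem
      calc σ * τ = τ * σ * (σ⁻¹ * τ⁻¹ * σ * τ) := by group
        _ = τ * σ := by rw [this, mul_one]
  · intro u
    obtain ⟨g, hga, hg⟩ := hinner u u.2
    refine ⟨⟨g, hga⟩, fun m => key _ _ _ ?_⟩
    rw [show (g : G) * (m : G) * g⁻¹ = (u : G) * m * (u : G)⁻¹ from hg m m.2]
    rfl
  · intro t _ H hH
    by_cases hHt : H = ⊤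
    · exact Or.inr hHt
    refine Or.inl (le_antisymm ?_ hH)
    have hb : ∀ g : stabilizer G a, g ∈ stabilizer (stabilizer G a) t ↔ (g : G) • ((t : G) • a) = (t : G) • a := by
      intro g
      rw [MulAction.mem_stabilizer_iff]
      constructor
      · intro h
        have := he g t
        rw [h] at this
        rw [mul_smul, inv_smul_eq_iff.2 g.2.symm, mul_smul] at this
        exact this.symm
      · intro h
        refine key g t t ?_
        rw [mul_smul, inv_smul_eq_iff.2 g.2.symm, mul_smul, h]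
    have h2 : H.map (stabilizer G a).subtype ≤ stabilizer G ((t : G) • a) := by
      refine S.orbit _ _ ?_ ?_ ?_
      · rintro g ⟨hga, hgb⟩
        exact ⟨⟨g, hga⟩, hH ((hb _).2 hgb), rfl⟩
      · rintro _ ⟨g, -, rfl⟩; exact g.2
      · intro h
        refine hHt (eq_top_iff.2 fun g _ => ?_)
        obtain ⟨g', hg', hgg⟩ := (h.ge g.2)
        rwa [← (stabilizer G a).subtype_injective hgg]
    intro g hg
    exact (hb g).2 (h2 ⟨g, hg, rfl⟩)

theorem normal_transitive [IsPreprimitive G Ω] [FaithfulSMul G Ω] (a : Ω) (N : Subgroup G) (hN : N.Normal)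
    (hN1 : N ≠ ⊥) (x : Ω) : ∃ n ∈ N, n • a = x := by
  have hfix : fixedPoints N Ω ≠ Set.univ := by
    intro h
    refine hN1 ((Subgroup.eq_bot_iff_forall _).2 fun n hn => FaithfulSMul.eq_of_smul_eq_smul (α := Ω) fun y => ?_)
    rw [one_smul]
    exact (h.ge (Set.mem_univ y) : y ∈ fixedPoints N Ω) ⟨n, hn⟩
  haveI := hN
  haveI : IsPretransitive N Ω := IsQuasiPreprimitive.isPretransitive_of_normal (G := G) hfix
  obtain ⟨n, hn⟩ := exists_smul_eq N a x
  exact ⟨n, n.2, hn⟩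

variable {a : Ω}

/-- The conjugates of a subgroup. -/
abbrev cj (T : Subgroup G) (g : G) : Subgroup G := T.map (MulAut.conj g).toMonoidHom

omit [Finite G] in
theorem mem_cj {T : Subgroup G} {g x : G} (h : x ∈ T) : g * x * g⁻¹ ∈ cj T g := ⟨x, h, rfl⟩

omit [Finite G] in
theorem cj_cj (T : Subgroup G) (g h : G) : cj (cj T h) g = cj T (g * h) := by
  rw [cj, cj, Subgroup.map_map]
  congr 1
  ext x
  simp [mul_assoc]

omit [Finite G] in
theorem cj_one (T : Subgroup G) : cj T 1 = T := by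
  ext x
  simp [cj]

omit [Finite G] in
theorem cj_normal {M : Subgroup G} (hM : M.Normal) (g : G) : cj M g = M := by
  ext x
  constructor
  · rintro ⟨y, hy, rfl⟩; exact hM.conj_mem y hy g
  · intro hx
    exact ⟨g⁻¹ * x * g, by simpa using hM.conj_mem x hx g⁻¹, by simp [mul_assoc]⟩

omit [Finite G] in
theorem cj_inv_of_eq {A B : Subgroup G} {g : G} (h : cj A g = B) : cj B g⁻¹ = A := by
  rw [← h, cj_cj, inv_mul_cancel, cj_one]

theorem main (S : Setup G a) :
    (∃ N : Subgroup G, N.Normal ∧ N ≠ ⊥ ∧ IsMulCommutative N ∧ ∀ ω : Ω, stabilizer N ω = ⊥) ∨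
    (∃ T : Subgroup G, T.Normal ∧ IsSimpleGroup T ∧ ¬ IsMulCommutative T ∧
      Subgroup.centralizer (T : Set G) = ⊥) := by
  classical
  have hne : (⊤ : Subgroup G) ≠ ⊥ := fun h => S.coatom.1 (eq_top_iff.2 (h.trans_le bot_le))
  obtain ⟨M, ⟨hMn, hMb⟩, hMmin⟩ :=
    wellFounded_lt.has_min {N : Subgroup G | N.Normal ∧ N ≠ ⊥} ⟨⊤, inferInstance, hne⟩
  have hmin : ∀ K : Subgroup G, K.Normal → K ≤ M → K ≠ ⊥ → K = M := fun K h1 h2 h3 => by
    by_contra h; exact hMmin K ⟨h1, h3⟩ (lt_of_le_of_ne h2 h)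
  set Ga := stabilizer G a with hGa
  by_cases hab : ∀ x ∈ M, ∀ y ∈ M, x * y = y * x
  · left
    refine ⟨M, hMn, hMb, ⟨⟨fun x y => Subtype.ext (hab x x.2 y y.2)⟩⟩, fun ω => ?_⟩
    refine (Subgroup.eq_bot_iff_forall _).2 fun n hn => Subtype.ext (S.faith n fun x => ?_)
    obtain ⟨m₁, hm₁, rfl⟩ := S.trans M hMn hMb ω
    obtain ⟨m₂, hm₂, rfl⟩ := S.trans M hMn hMb x
    have h1 : (n : G) • m₁ • a = m₁ • a := hn
    have hc := hab _ n.2 _ (M.mul_mem hm₂ (M.inv_mem hm₁))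
    have e : m₂ • a = (m₂ * m₁⁻¹) • m₁ • a := by rw [← mul_smul, inv_mul_cancel_right]
    rw [e, ← mul_smul, hc, mul_smul, h1]
  push Not at hab
  right
  obtain ⟨T, ⟨hTM, hTb, hMT⟩, hTmin⟩ :=
    wellFounded_lt.has_min {T : Subgroup G | T ≤ M ∧ T ≠ ⊥ ∧ M ≤ Subgroup.normalizer (T : Set G)}
      ⟨M, le_rfl, hMb, Subgroup.le_normalizer⟩
  have hTmin' : ∀ X : Subgroup G, X ≤ T → X ≠ ⊥ → (∀ m ∈ M, ∀ x ∈ X, m * x * m⁻¹ ∈ X) → X = T :=
    fun X h1 h2 h3 => by
      by_contra h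
      exact hTmin X ⟨h1.trans hTM, h2, fun m hm => mem_normalizer_of_conj (h3 m hm)⟩ (lt_of_le_of_ne h1 h)
  have hMcj : ∀ g : G, ∀ m ∈ M, ∀ x ∈ cj T g, m * x * m⁻¹ ∈ cj T g := by
    rintro g m hm _ ⟨y, hy, rfl⟩
    have := (Subgroup.mem_normalizer_iff.1 (hMT (hMn.conj_mem m hm g⁻¹)) y).1 hy
    exact ⟨_, this, by simp [mul_assoc]⟩
  have hcjM : ∀ g : G, cj T g ≤ M := fun g =>
    (Subgroup.map_mono hTM).trans (cj_normal hMn g).le
  have hcjmin : ∀ (g : G) (X : Subgroup G), X ≤ cj T g → X ≠ ⊥ → (∀ m ∈ M, ∀ x ∈ X, m * x * m⁻¹ ∈ X) →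
      X = cj T g := by
    intro g X h1 h2 h3
    have hX : cj X g⁻¹ = T := by
      refine hTmin' _ ((Subgroup.map_mono h1).trans (cj_inv_of_eq rfl).le) ?_ ?_
      · rw [ne_eq, Subgroup.map_eq_bot_iff_of_injective _ (MulAut.conj g⁻¹).injective]
        exact h2
      · rintro m hm _ ⟨y, hy, rfl⟩
        exact ⟨_, h3 _ (hMn.conj_mem m hm g) y hy, by simp [mul_assoc]⟩
    rw [← hX, cj_cj, mul_inv_cancel, cj_one]
  have hdisj : ∀ g h : G, cj T g ≠ cj T h → cj T g ⊓ cj T h = ⊥ := by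
    intro g h hgh
    by_contra hb
    have hn : ∀ m ∈ M, ∀ x ∈ cj T g ⊓ cj T h, m * x * m⁻¹ ∈ cj T g ⊓ cj T h := fun m hm x hx =>
      ⟨hMcj g m hm x hx.1, hMcj h m hm x hx.2⟩
    exact hgh ((hcjmin g _ inf_le_left hb hn).symm.trans (hcjmin h _ inf_le_right hb hn))
  have hcomm : ∀ g h : G, cj T g ≠ cj T h → ∀ x ∈ cj T g, ∀ y ∈ cj T h, Commute x y := by
    intro g h hgh x hx y hy
    rw [← commutatorElement_eq_one_iff_commute, ← Subgroup.mem_bot, ← hdisj g h hgh, commutatorElement_def]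
    refine ⟨?_, (cj T h).mul_mem (hMcj h x (hcjM g hx) y hy) ((cj T h).inv_mem hy)⟩
    rw [mul_assoc x y, mul_assoc x]
    exact (cj T g).mul_mem hx (hMcj g y (hcjM h hy) _ ((cj T g).inv_mem hx))
  -- generation
  have hsup : ∀ K : Subgroup G, (∀ g : G, cj T g ≤ K) → M ≤ K := by
    intro K hK
    have hS : (⨆ g : G, cj T g).Normal := by
      refine ⟨fun x hx g => ?_⟩
      have : cj (⨆ h, cj T h) g ≤ ⨆ h, cj T h := by
        rw [cj, Subgroup.map_iSup]
        exact iSup_le fun h => (cj_cj T g h).le.trans (le_iSup (fun h => cj T h) (g * h))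
      exact this (mem_cj hx)
    rw [← hmin _ hS (iSup_le hcjM) fun h => hTb (le_bot_iff.1 ((cj_one T).symm.le.trans
      ((le_iSup (fun h => cj T h) 1).trans h.le)))]
    exact iSup_le hK
  have hTna : ∃ x ∈ T, ∃ y ∈ T, x * y ≠ y * x := by
    by_contra hc
    push Not at hc
    have hall : ∀ g h : G, ∀ x ∈ cj T g, ∀ y ∈ cj T h, x * y = y * x := by
      intro g h x hx y hy
      by_cases e : cj T g = cj T h
      · rw [← e] at hy
        obtain ⟨x, hx, rfl⟩ := hx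
        obtain ⟨y, hy, rfl⟩ := hy
        rw [← map_mul, ← map_mul, hc x hx y hy]
      · exact hcomm g h e x hx y hy
    obtain ⟨x, hx, y, hy, hxy⟩ := hab
    have h1 : M ≤ Subgroup.centralizer (M : Set G) := hsup _ fun g u hu =>
      Subgroup.mem_centralizer_iff.2 fun v hv =>
        (Subgroup.mem_centralizer_singleton_iff.1 (hsup (Subgroup.centralizer {u})
          (fun h w hw => Subgroup.mem_centralizer_singleton_iff.2 (hall h g w hw u hu)) hv))
    exact hxy ((Subgroup.mem_centralizer_iff.1 (h1 hy) x hx))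
  -- the other factors
  let R : Subgroup G := ⨆ (g : G) (_ : cj T g ≠ T), cj T g
  have hR : ∀ y ∈ R, ∀ x ∈ T, Commute y x := by
    intro y hy x hx
    have hle : R ≤ Subgroup.centralizer {x} := iSup₂_le fun g hg z hz =>
      Subgroup.mem_centralizer_singleton_iff.2
        (hcomm g 1 (by rwa [cj_one]) z hz x (by rwa [cj_one]))
    exact Subgroup.mem_centralizer_singleton_iff.1 (hle hy)
  have hgR : ∀ g : G, cj T g ≠ T → cj T g ≤ R := fun g hg =>
    le_iSup₂ (f := fun (g : G) (_ : cj T g ≠ T) => cj T g) g hg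
  have hRM : R ≤ M := iSup₂_le fun g _ => hcjM g
  have hdec : ∀ m ∈ M, ∃ x ∈ T, ∃ y ∈ R, m = x * y := by
    let K : Subgroup G :=
      { carrier := {m | ∃ x ∈ T, ∃ y ∈ R, m = x * y}
        one_mem' := ⟨1, T.one_mem, 1, R.one_mem, (mul_one 1).symm⟩
        mul_mem' := by
          rintro _ _ ⟨x, hx, y, hy, rfl⟩ ⟨x', hx', y', hy', rfl⟩
          exact ⟨_, T.mul_mem hx hx', _, R.mul_mem hy hy', (hR y hy x' hx').mul_mul_mul_comm _ _⟩
        inv_mem' := by
          rintro _ ⟨x, hx, y, hy, rfl⟩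
          exact ⟨_, T.inv_mem hx, _, R.inv_mem hy, by
            rw [mul_inv_rev]; exact ((hR y hy x hx).inv_inv).eq⟩ }
    intro m hm
    exact hsup K (fun g x hx => by
      by_cases e : cj T g = T
      · exact ⟨x, e ▸ hx, 1, R.one_mem, (mul_one x).symm⟩
      · exact ⟨1, T.one_mem, x, hgR g e hx, (one_mul x).symm⟩) hm
  have hTsimp : ∀ X : Subgroup G, X ≤ T → X ≠ ⊥ → (∀ u ∈ T, ∀ x ∈ X, u * x * u⁻¹ ∈ X) → X = T := by
    refine fun X h1 h2 h3 => hTmin' X h1 h2 fun m hm x hx => ?_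
    obtain ⟨u, hu, y, hy, rfl⟩ := hdec m hm
    have : u * y * x * (u * y)⁻¹ = u * x * u⁻¹ := by
      calc u * y * x * (u * y)⁻¹ = u * (y * x) * y⁻¹ * u⁻¹ := by group
        _ = u * (x * y) * y⁻¹ * u⁻¹ := by rw [(hR y hy x (h1 hx)).eq]
        _ = _ := by group
    rw [this]
    exact h3 u hu x hx
  haveI : IsSimpleGroup T := by
    haveI : Nontrivial T := (Subgroup.nontrivial_iff_ne_bot _).2 hTb
    refine ⟨fun N hN => ?_⟩
    by_cases hb : N = ⊥
    · exact Or.inl hb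
    right
    have := hTsimp (N.map T.subtype) (Subgroup.map_subtype_le N)
      (by rwa [ne_eq, Subgroup.map_eq_bot_iff_of_injective _ T.subtype_injective]) (by
        rintro u hu _ ⟨x, hx, rfl⟩
        exact ⟨_, hN.conj_mem x hx ⟨u, hu⟩, rfl⟩)
    exact eq_top_iff.2 fun x _ => by
      obtain ⟨y, hy, e⟩ := this.ge x.2
      rwa [← T.subtype_injective e]
  have hcen : ∀ z ∈ T, (∀ x ∈ T, z * x = x * z) → z = 1 := by
    intro z hz hzc
    by_contra h1
    have hZ := hTsimp (T ⊓ Subgroup.centralizer (T : Set G)) inf_le_left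
      (fun h => h1 (Subgroup.mem_bot.1 (h.le ⟨hz, Subgroup.mem_centralizer_iff.2 fun x hx => (hzc x hx).symm⟩)))
      (fun u hu x hx => by
        have : u * x * u⁻¹ = x := by
          rw [Subgroup.mem_centralizer_iff.1 hx.2 u hu, mul_inv_cancel_right]
        rwa [this])
    obtain ⟨x, hx, y, hy, hxy⟩ := hTna
    exact hxy (Subgroup.mem_centralizer_iff.1 (hZ.ge hy).2 x hx)
  have hTR : ∀ z ∈ T, z ∈ R → z = 1 := fun z hz hz' => hcen z hz fun x hx => hR z hz' x hx
  by_cases single : ∀ g : G, cj T g = T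
  · -- a single factor
    obtain rfl : T = M := le_antisymm hTM (hsup T fun g => (single g).le)
    by_cases hC : Subgroup.centralizer (T : Set G) = ⊥
    · refine ⟨T, hMn, inferInstance, fun hc => ?_, hC⟩
      obtain ⟨x, hx, y, hy, hxy⟩ := hTna
      exact hxy (congrArg Subtype.val (mul_comm' (⟨x, hx⟩ : T) ⟨y, hy⟩))
    exfalso
    haveI := hMn
    have hCn : (Subgroup.centralizer (T : Set G)).Normal := inferInstance
    refine diag_false S T hTna ?_ (fun x => S.trans T hMn hMb x)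
      (fun g _ => Or.inl fun m hm => hMn.conj_mem m hm g) ?_
    · intro u hu hua
      refine S.faith u fun x => ?_
      obtain ⟨c, hc, rfl⟩ := S.trans _ hCn hC x
      rw [← mul_smul, Subgroup.mem_centralizer_iff.1 hc u hu, mul_smul, hua]
    · intro u hu
      obtain ⟨c, hc, hca⟩ := S.trans _ hCn hC (u • a)
      refine ⟨c⁻¹ * u, by rw [mul_smul, ← hca, inv_smul_smul], fun m hm => ?_⟩
      have h' := Subgroup.mem_centralizer_iff.1 hc (u * m * u⁻¹) (T.mul_mem (T.mul_mem hu hm) (T.inv_mem hu))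
      calc c⁻¹ * u * m * (c⁻¹ * u)⁻¹ = c⁻¹ * ((u * m * u⁻¹) * c) := by group
        _ = u * m * u⁻¹ := by rw [h']; group
  exfalso
  push Not at single
  -- every factor is a conjugate under the stabilizer
  have hGaT : ∀ g : G, ∃ g' ∈ Ga, cj T g' = cj T g := by
    intro g
    obtain ⟨m, hm, hma⟩ := S.trans M hMn hMb (g • a)
    refine ⟨m⁻¹ * g, by rw [hGa, mem_stab, mul_smul, ← hma, inv_smul_smul], ?_⟩
    rw [← cj_cj]
    refine Subgroup.eq_of_le_of_card_ge ?_ ?_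
    · rintro _ ⟨x, hx, rfl⟩
      exact hMcj g _ (M.inv_mem hm) x hx
    · exact (Subgroup.card_map_of_injective (MulAut.conj m⁻¹).injective).ge
  have hdisjT : ∀ g : G, cj T g ≠ T → ∀ x ∈ T, x ∈ cj T g → x = 1 := fun g hg x hx hx' =>
    hTR x hx (hgR g hg hx')
  let NT : Subgroup G := Ga ⊓ Subgroup.normalizer (T : Set G)
  have hNT : NT ≠ Ga := by
    intro h
    obtain ⟨g, hg⟩ := single
    obtain ⟨g', hg', e⟩ := hGaT g
    refine hg (e ▸ ?_)
    refine Subgroup.eq_of_le_of_card_ge ?_ (by rw [Subgroup.card_map_of_injective (MulAut.conj g').injective])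
    rintro _ ⟨x, hx, rfl⟩
    exact (Subgroup.mem_normalizer_iff.1 (h.ge hg').2 x).1 hx
  have hmemNT : ∀ g ∈ Ga, cj T g = T → g ∈ NT := fun g hg e =>
    ⟨hg, mem_normalizer_of_conj fun x hx => e ▸ mem_cj hx⟩
  -- stabilizers of points in the first factor
  have hstab : ∀ g ∈ Ga, ∀ m : G, g • (m • a) = m • a → (m⁻¹ * (g * m * g⁻¹)) • a = a := by
    intro g hg m h
    rw [mul_smul, mul_smul, mul_smul, inv_smul_eq_iff.2 (mem_stab.1 hg).symm, h, inv_smul_smul]
  -- the stabilizer as a whole fixes nothing nontrivial in a factor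
  have hUne : ∃ x ∈ M, x • a = a ∧ x ≠ 1 := by
    by_contra hU
    push Not at hU
    -- every element of the stabilizer normalizing the factor centralizes it
    have hcentr : ∀ g ∈ NT, ∀ m ∈ T, g * m * g⁻¹ = m := by
      intro g hg m hm
      rcases eq_or_ne m 1 with rfl | hm1
      · simp
      have hle : Ga ⊓ stabilizer G (m • a) ≤ NT := by
        rintro h ⟨hh, hh'⟩
        have e := hU _ (M.mul_mem (M.inv_mem (hTM hm)) (hMn.conj_mem m (hTM hm) h)) (hstab h hh m hh')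
        rw [inv_mul_eq_one] at e
        refine hmemNT h hh ?_
        by_contra hne'
        exact hm1 (hdisjT h hne' m hm (e ▸ mem_cj hm))
      have := S.orbit _ NT hle inf_le_left hNT hg
      exact (inv_mul_eq_one.1 (hU _ (M.mul_mem (M.inv_mem (hTM hm)) (hMn.conj_mem m (hTM hm) g))
        (hstab g hg.1 m this))).symm
    obtain ⟨⟨t, ht⟩, ht'⟩ := Subgroup.ne_bot_iff_exists_ne_one.1 hTb
    have ht1 : t ≠ 1 := fun e => ht' (Subtype.ext e)
    haveI := Fintype.ofFinite G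
    let O : Finset G := (Finset.univ.filter fun g => g ∈ Ga).image fun g => g * t * g⁻¹
    have hO : ∀ y, y ∈ O ↔ ∃ g ∈ Ga, g * t * g⁻¹ = y := by simp [O]
    have hpair : ∀ g ∈ Ga, ∀ g' ∈ Ga, cj T g = cj T g' → g * t * g⁻¹ = g' * t * g'⁻¹ := by
      intro g hg g' hg' e
      have := hcentr (g'⁻¹ * g) (hmemNT _ (Ga.mul_mem (Ga.inv_mem hg') hg)
        (by rw [← cj_cj, e]; exact cj_inv_of_eq rfl)) t ht
      conv_rhs => rw [← this]
      group
    have hOc : {x | x ∈ O.1}.Pairwise Commute := by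
      intro x hx y hy hxy
      obtain ⟨g, hg, rfl⟩ := (hO x).1 hx
      obtain ⟨g', hg', rfl⟩ := (hO y).1 hy
      exact hcomm g g' (fun e => hxy (hpair g hg g' hg' e)) _ (mem_cj ht) _ (mem_cj ht)
    set z := O.1.noncommProd hOc with hz
    have hzfix : ∀ g ∈ Ga, g * z * g⁻¹ = z := by
      intro g hg
      show (MulAut.conj g).toMonoidHom z = z
      rw [hz, Multiset.map_noncommProd]
      have hmap : O.1.map (MulAut.conj g).toMonoidHom = O.1 := by
        have hinj : Function.Injective (MulAut.conj g).toMonoidHom := (MulAut.conj g).injective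
        have : O.image (MulAut.conj g).toMonoidHom = O := by
          refine Finset.eq_of_subset_of_card_le ?_ (by rw [Finset.card_image_of_injective _ hinj])
          intro x hx
          obtain ⟨y, hy, rfl⟩ := Finset.mem_image.1 hx
          obtain ⟨h, hh, rfl⟩ := (hO y).1 hy
          exact (hO _).2 ⟨g * h, Ga.mul_mem hg hh, by simp [mul_assoc]⟩
        calc O.1.map (MulAut.conj g).toMonoidHom = (O.image (MulAut.conj g).toMonoidHom).1 :=
              (Finset.image_val_of_injOn hinj.injOn).symm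
          _ = O.1 := congrArg Finset.val this
      congr 1
    have htO : t ∈ O.1 := (hO t).2 ⟨1, Ga.one_mem, by simp⟩
    have hzM : z ∈ M := by
      refine Multiset.noncommProd_induction _ _ (· ∈ M) (fun _ _ => M.mul_mem) M.one_mem fun y hy => ?_
      obtain ⟨g, -, rfl⟩ := (hO y).1 hy
      exact hMn.conj_mem t (hTM ht) g
    have hz1 : z = 1 := by
      have hle : Ga ≤ stabilizer G (z • a) := fun g hg => by
        rw [mem_stab, ← mul_smul, show g * z = z * g from mul_inv_eq_iff_eq_mul.1 (hzfix g hg), mul_smul,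
          mem_stab.1 hg]
      have heq : stabilizer G (z • a) = Ga := by
        rcases S.coatom.le_iff.1 hle with h | h
        · exfalso
          refine ht1 (S.faith t fun x => ?_)
          obtain ⟨m, hm, rfl⟩ := S.trans M hMn hMb x
          have hfix : ∀ g : G, g • (z • a) = z • a := fun g => mem_stab.1 (h ▸ Subgroup.mem_top g)
          obtain ⟨m', hm', he⟩ := S.trans M hMn hMb (z • a)
          have : ∀ g : G, g • a = a := fun g => by
            have := hfix (m' * g * m'⁻¹)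
            rw [← he, ← mul_smul, inv_mul_cancel_right, mul_smul] at this
            exact (smul_left_cancel_iff m').1 this
          rw [this, this]
        · exact h
      rw [stabilizer_smul_eq_stabilizer_map_conj] at heq
      have hzN : z ∈ Subgroup.normalizer (Ga : Set G) :=
        mem_normalizer_of_conj fun x hx => heq ▸ ⟨x, hx, rfl⟩
      rcases S.coatom.le_iff.1 (Subgroup.le_normalizer (H := Ga)) with h | h
      · exfalso
        have hn : Ga.Normal := Subgroup.normalizer_eq_top_iff.1 h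
        obtain ⟨g, hg⟩ := single
        obtain ⟨g', hg', e⟩ := hGaT g
        refine hg (e ▸ ?_)
        have : g' = 1 := S.faith g' fun x => by
          obtain ⟨m, hm, rfl⟩ := S.trans M hMn hMb x
          have hmem : m⁻¹ * g' * m ∈ Ga := by simpa using hn.conj_mem g' hg' m⁻¹
          rw [hGa, mem_stab, mul_smul, mul_smul, inv_smul_eq_iff] at hmem
          exact hmem
        rw [this, cj_one]
      · exact hU z hzM (mem_stab.1 (h.le hzN))
    rw [hz, ← Multiset.mul_noncommProd_erase _ htO] at hz1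
    have hrest : ∀ hc, (O.1.erase t).noncommProd hc ∈ R := fun hc => by
      refine Multiset.noncommProd_induction _ _ (· ∈ R) (fun _ _ => R.mul_mem) R.one_mem fun y hy => ?_
      obtain ⟨hyt, hy'⟩ := (Multiset.Nodup.mem_erase_iff O.nodup).1 hy
      obtain ⟨g, hg, rfl⟩ := (hO y).1 hy'
      refine hgR g (fun e => hyt ?_) (mem_cj ht)
      have := hpair g hg 1 Ga.one_mem (by rw [e, cj_one])
      simpa using this
    refine ht1 (hTR t ht ?_)
    rw [eq_inv_of_mul_eq_one_left hz1]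
    exact R.inv_mem (hrest _)
  obtain ⟨x₀, hx₀M, hx₀a, hx₀1⟩ := hUne
  let U : Subgroup G := M ⊓ Ga
  have hUnot : ¬ ∀ t ∈ T, ∀ u ∈ U, t * u * t⁻¹ ∈ U := by
    intro h
    have hMU : M ≤ Subgroup.normalizer (U : Set G) := hsup _ fun g => by
      obtain ⟨g', hg', e⟩ := hGaT g
      rw [← e]
      rintro _ ⟨x, hx, rfl⟩
      refine mem_normalizer_of_conj fun u hu => ?_
      have hu' : g'⁻¹ * u * g' ∈ U :=
        ⟨by simpa using hMn.conj_mem u hu.1 g'⁻¹, Ga.mul_mem (Ga.mul_mem (Ga.inv_mem hg') hu.2) hg'⟩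
      have h1 := h x hx _ hu'
      show g' * x * g'⁻¹ * u * (g' * x * g'⁻¹)⁻¹ ∈ U
      have e' : g' * x * g'⁻¹ * u * (g' * x * g'⁻¹)⁻¹ = g' * (x * (g'⁻¹ * u * g') * x⁻¹) * g'⁻¹ := by group
      rw [e']
      exact ⟨hMn.conj_mem _ h1.1 g', Ga.mul_mem (Ga.mul_mem hg' h1.2) (Ga.inv_mem hg')⟩
    refine hx₀1 (S.faith x₀ fun x => ?_)
    obtain ⟨m, hm, rfl⟩ := S.trans M hMn hMb x
    have h1 := (Subgroup.mem_normalizer_iff.1 (hMU (M.inv_mem hm)) x₀).1 ⟨hx₀M, hx₀a⟩
    have h2 := mem_stab.1 h1.2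
    rw [inv_inv, mul_smul, mul_smul, inv_smul_eq_iff] at h2
    exact h2
  have hUN : ∀ d ∈ U, d ∈ NT := fun d hd => ⟨hd.2, hMT hd.1⟩
  let U1 : Subgroup G :=
    { carrier := {x | x ∈ T ∧ ∃ y ∈ R, x * y ∈ Ga}
      one_mem' := ⟨T.one_mem, 1, R.one_mem, by rw [mul_one]; exact Ga.one_mem⟩
      mul_mem' := by
        rintro x x' ⟨hx, y, hy, h⟩ ⟨hx', y', hy', h'⟩
        refine ⟨T.mul_mem hx hx', y * y', R.mul_mem hy hy', ?_⟩
        rw [← (hR y hy x' hx').mul_mul_mul_comm x y']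
        exact Ga.mul_mem h h'
      inv_mem' := by
        rintro x ⟨hx, y, hy, h⟩
        refine ⟨T.inv_mem hx, y⁻¹, R.inv_mem hy, ?_⟩
        rw [← ((hR y hy x hx).inv_inv).eq, ← mul_inv_rev]
        exact Ga.inv_mem h }
  -- the projection of the stabilizer is onto
  have hU1 : ∀ x ∈ T, x ∈ U1 := by
    by_contra hc
    push Not at hc
    obtain ⟨m₀, hm₀T, hm₀⟩ := hc
    have hout : ∀ m ∈ T, m ∉ U1 → ∀ d ∈ U, m⁻¹ * d * m ∈ U := by
      intro m hm hm1 d hd
      have hle : Ga ⊓ stabilizer G (m • a) ≤ NT := by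
        rintro h ⟨hh, hh'⟩
        refine hmemNT h hh ?_
        by_contra hne'
        have := hstab h hh m hh'
        exact hm1 (U1.inv_mem_iff.1 ⟨T.inv_mem hm, _, hgR h hne' (mem_cj hm), this⟩)
      have h1 := S.orbit _ NT hle inf_le_left hNT (hUN d hd)
      refine ⟨by simpa using hMn.conj_mem d hd.1 m⁻¹, ?_⟩
      show (m⁻¹ * d * m) • a = a
      rw [mul_smul, mul_smul, mem_stab.1 h1, inv_smul_smul]
    refine hUnot fun t ht u hu => ?_
    have hout' : ∀ m ∈ T, m ∉ U1 → ∀ d ∈ U, m * d * m⁻¹ ∈ U := fun m hm hm1 d hd => by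
      have := hout m⁻¹ (T.inv_mem hm) (fun h => hm1 (U1.inv_mem_iff.1 h)) d hd
      rwa [inv_inv] at this
    by_cases h1 : t ∈ U1
    · have hprod : t * m₀ ∉ U1 := fun h => hm₀ ((U1.mul_mem_cancel_left h1).1 h)
      have := hout' _ (T.mul_mem ht hm₀T) hprod _ (hout m₀ hm₀T hm₀ u hu)
      simpa [mul_assoc] using this
    · exact hout' t ht h1 u hu
  have hT0 : ∀ x ∈ T, x • a = a → x = 1 := by
    by_contra hc
    push Not at hc
    obtain ⟨x, hx, hxa, hx1⟩ := hc
    have hX := hTsimp (T ⊓ Ga) inf_le_left (fun h => hx1 (Subgroup.mem_bot.1 (h.le ⟨hx, hxa⟩))) (by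
      intro u hu v hv
      obtain ⟨-, y, hy, hd⟩ := hU1 u hu
      refine ⟨T.mul_mem (T.mul_mem hu hv.1) (T.inv_mem hu), ?_⟩
      have e : u * v * u⁻¹ = u * y * v * (u * y)⁻¹ := by
        calc u * v * u⁻¹ = u * (v * y) * y⁻¹ * u⁻¹ := by group
          _ = u * (y * v) * y⁻¹ * u⁻¹ := by rw [(hR y hy v hv.1).eq]
          _ = _ := by group
      rw [e]
      exact Ga.mul_mem (Ga.mul_mem hd hv.2) (Ga.inv_mem hd))
    refine hUnot fun t ht u hu => ⟨hMn.conj_mem u hu.1 t, Ga.mul_mem (Ga.mul_mem (hX.ge ht).2 hu.2) (Ga.inv_mem (hX.ge ht).2)⟩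
  -- partners
  let P : Subgroup G → Subgroup G → Prop := fun A B => A ≠ B ∧ ∃ x ∈ A, ∃ y ∈ B, x ≠ 1 ∧ x * y ∈ Ga
  have hPg : ∀ g ∈ Ga, ∀ A B : Subgroup G, P A B → P (cj A g) (cj B g) := by
    rintro g hg A B ⟨hne', x, hx, y, hy, hx1, hxy⟩
    refine ⟨fun e => hne' (Subgroup.map_injective (MulAut.conj g).injective e), _, mem_cj hx, _, mem_cj hy,
      fun e => hx1 ?_, ?_⟩
    · exact (MulAut.conj g).injective (e.trans (map_one (MulAut.conj g)).symm)
    · rw [show g * x * g⁻¹ * (g * y * g⁻¹) = g * (x * y) * g⁻¹ by group]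
      exact Ga.mul_mem (Ga.mul_mem hg hxy) (Ga.inv_mem hg)
  have hPsymm : ∀ g h : G, P (cj T g) (cj T h) → P (cj T h) (cj T g) := by
    rintro g h ⟨hne', x, hx, y, hy, hx1, hxy⟩
    refine ⟨hne'.symm, y, hy, x, hx, fun e => hx1 ?_, ?_⟩
    · obtain ⟨g', hg', e'⟩ := hGaT g
      rw [e, mul_one] at hxy
      rw [← e'] at hx
      obtain ⟨x', hx', rfl⟩ := hx
      have hxy' : g' * x' * g'⁻¹ ∈ Ga := hxy
      rw [Ga.mul_mem_cancel_right (Ga.inv_mem hg'), Ga.mul_mem_cancel_left hg'] at hxy'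
      show g' * x' * g'⁻¹ = 1
      rw [hT0 x' hx' hxy', mul_one, mul_inv_cancel]
    · rwa [← (hcomm g h hne' x hx y hy).eq]
  have hfull : ∀ h : G, P T (cj T h) → ∀ x ∈ T, ∃ y ∈ cj T h, x * y ∈ Ga := by
    rintro h ⟨hne', x₁, hx₁, y₁, hy₁, hx11, hxy⟩
    let X : Subgroup G :=
      { carrier := {x | x ∈ T ∧ ∃ y ∈ cj T h, x * y ∈ Ga}
        one_mem' := ⟨T.one_mem, 1, (cj T h).one_mem, by rw [mul_one]; exact Ga.one_mem⟩
        mul_mem' := by
          rintro x x' ⟨hx, y, hy, hd⟩ ⟨hx', y', hy', hd'⟩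
          refine ⟨T.mul_mem hx hx', y * y', (cj T h).mul_mem hy hy', ?_⟩
          rw [← (hR y (hgR h hne'.symm hy) x' hx').mul_mul_mul_comm x y']
          exact Ga.mul_mem hd hd'
        inv_mem' := by
          rintro x ⟨hx, y, hy, hd⟩
          refine ⟨T.inv_mem hx, y⁻¹, (cj T h).inv_mem hy, ?_⟩
          rw [← ((hR y (hgR h hne'.symm hy) x hx).inv_inv).eq, ← mul_inv_rev]
          exact Ga.inv_mem hd }
    have hXT : X = T := hTsimp X (fun x hx => hx.1)
      (fun e => hx11 (Subgroup.mem_bot.1 (e ▸ (⟨hx₁, y₁, hy₁, hxy⟩ : x₁ ∈ X)))) (by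
      rintro u hu x ⟨hx, y, hy, hd⟩
      obtain ⟨-, w, hw, hd'⟩ := hU1 u hu
      refine ⟨T.mul_mem (T.mul_mem hu hx) (T.inv_mem hu), w * y * w⁻¹, hMcj h w (hRM hw) y hy, ?_⟩
      have e : u * x * u⁻¹ * (w * y * w⁻¹) = u * w * (x * y) * (u * w)⁻¹ := by
        calc u * x * u⁻¹ * (w * y * w⁻¹) = u * x * (u⁻¹ * (w * y * w⁻¹)) := by group
          _ = u * x * ((w * y * w⁻¹) * u⁻¹) := by
              rw [(hR _ (R.mul_mem (R.mul_mem hw (hgR h hne'.symm hy)) (R.inv_mem hw)) _ (T.inv_mem hu)).eq]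
          _ = u * (x * w) * y * w⁻¹ * u⁻¹ := by group
          _ = u * (w * x) * y * w⁻¹ * u⁻¹ := by rw [(hR w hw x hx).eq]
          _ = _ := by group
      rw [e]
      exact Ga.mul_mem (Ga.mul_mem hd' hd) (Ga.inv_mem hd'))
    exact fun x hx => (hXT.ge hx).2
  have huniqT : ∀ g h : G, P T (cj T g) → P T (cj T h) → cj T g = cj T h := by
    intro g h hg hh
    by_contra hne'
    obtain ⟨x, hx, x', hx', hxx⟩ := hTna
    obtain ⟨y, hy, hd⟩ := hfull g hg x hx
    obtain ⟨y', hy', hd'⟩ := hfull h hh x' hx'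
    have c1 : Commute y x' := hR y (hgR g hg.1.symm hy) x' hx'
    have c2 : Commute y' x := hR y' (hgR h hh.1.symm hy') x hx
    have c3 : Commute y y' := hcomm g h hne' y hy y' hy'
    have e : x * y * (x' * y') = x * x' * (y * y') := c1.mul_mul_mul_comm _ _
    have e' : x' * y' * (x * y) = x' * x * (y * y') := by
      rw [c2.mul_mul_mul_comm, c3.eq]
    have hmem := Ga.mul_mem (Ga.mul_mem hd hd') (Ga.inv_mem (Ga.mul_mem hd' hd))
    rw [e, e', show x * x' * (y * y') * (x' * x * (y * y'))⁻¹ = x * x' * (x' * x)⁻¹ by group] at hmem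
    exact hxx (mul_inv_eq_one.1 (hT0 _ (T.mul_mem (T.mul_mem hx hx') (T.inv_mem (T.mul_mem hx' hx))) hmem))
  have huniq : ∀ k g h : G, P (cj T k) (cj T g) → P (cj T k) (cj T h) → cj T g = cj T h := by
    intro k g h hg hh
    obtain ⟨k', hk', e⟩ := hGaT k
    have h1 := hPg k'⁻¹ (Ga.inv_mem hk') _ _ hg
    have h2 := hPg k'⁻¹ (Ga.inv_mem hk') _ _ hh
    rw [cj_inv_of_eq e, cj_cj] at h1 h2
    have := huniqT _ _ h1 h2
    rw [← cj_cj, ← cj_cj] at this
    exact Subgroup.map_injective (MulAut.conj k'⁻¹).injective this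
  -- a small stabilizer gives a contradiction
  have hsmall : ∀ m ∈ T, m ≠ 1 → ∀ H : Subgroup G, Ga ⊓ stabilizer G (m • a) ≤ H → H ≤ Ga → H ≠ Ga →
      U ≤ H → False := by
    intro m hm hm1 H h1 h2 h3 h4
    refine hm1 (hcen m hm fun x hx => ?_)
    obtain ⟨-, y, hy, hd⟩ := hU1 x hx
    have hfix := hstab _ hd m (S.orbit _ H h1 h2 h3 (h4 ⟨M.mul_mem (hTM hx) (hRM hy), hd⟩))
    have e : m⁻¹ * (x * y * m * (x * y)⁻¹) = m⁻¹ * (x * m * x⁻¹) := by
      calc m⁻¹ * (x * y * m * (x * y)⁻¹) = m⁻¹ * (x * (y * m) * y⁻¹ * x⁻¹) := by group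
        _ = m⁻¹ * (x * (m * y) * y⁻¹ * x⁻¹) := by rw [(hR y hy m hm).eq]
        _ = _ := by group
    rw [e] at hfix
    have := inv_mul_eq_one.1 (hT0 _ (T.mul_mem (T.inv_mem hm) (T.mul_mem (T.mul_mem hx hm) (T.inv_mem hx))) hfix)
    exact eq_mul_inv_iff_mul_eq.1 this
  obtain ⟨m, hm, hm1⟩ : ∃ m ∈ T, m ≠ 1 := by
    obtain ⟨x, hx, y, hy, hxy⟩ := hTna
    exact ⟨x, hx, fun e => hxy (by rw [e, one_mul, mul_one])⟩
  have hmove : ∀ h ∈ Ga, h • (m • a) = m • a → cj T h ≠ T → P T (cj T h) := fun h hh hh' hne' =>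
    ⟨hne'.symm, m⁻¹, T.inv_mem hm, _, mem_cj hm, inv_ne_one.2 hm1, hstab h hh m hh'⟩
  by_cases hpart : ∃ g : G, P T (cj T g)
  swap
  · refine hsmall m hm hm1 NT ?_ inf_le_left hNT hUN
    rintro h ⟨hh, hh'⟩
    refine hmemNT h hh ?_
    by_contra hne'
    exact hpart ⟨h, hmove h hh hh' hne'⟩
  obtain ⟨j, hj⟩ := hpart
  have hswap : ∀ h ∈ Ga, cj T h = cj T j → cj (cj T j) h = T := by
    intro h hh e
    have h1 := hPg h hh _ _ hj
    rw [cj_cj] at h1
    rw [e] at h1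
    rw [cj_cj]
    have h2 : P (cj T j) (cj T 1) := hPsymm 1 j (by rw [cj_one]; exact hj)
    exact (huniq j (h * j) 1 h1 h2).trans (cj_one T)
  have hkeep : ∀ h ∈ Ga, cj T h = T → cj (cj T j) h = cj T j := by
    intro h hh e
    have h1 := hPg h hh _ _ hj
    rw [e, cj_cj] at h1
    rw [cj_cj]
    exact huniqT _ _ h1 hj
  by_cases htwo : ∀ g : G, cj T g = T ∨ cj T g = cj T j
  · -- two factors
    have hR2 : R ≤ cj T j := iSup₂_le fun g hg => by
      rcases htwo g with e | e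
      · exact absurd e hg
      · exact e.le
    obtain ⟨g₀, hg₀, eg₀⟩ := hGaT j
    refine diag_false S T hTna hT0 ?_ ?_ ?_
    · intro x
      obtain ⟨n, hn, rfl⟩ := S.trans M hMn hMb x
      obtain ⟨x', hx', z, hz, rfl⟩ := hdec n hn
      have hz' : z ∈ cj T g₀ := eg₀ ▸ hR2 hz
      obtain ⟨z₀, hz₀, he⟩ := hz'
      obtain rfl : g₀ * z₀ * g₀⁻¹ = z := he
      obtain ⟨y, hy, hd⟩ := hfull j hj z₀ hz₀
      have hy' : g₀ * y * g₀⁻¹ ∈ T := by
        have := hswap g₀ hg₀ eg₀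
        exact this ▸ mem_cj hy
      have hd' : g₀ * z₀ * g₀⁻¹ * (g₀ * y * g₀⁻¹) ∈ Ga := by
        rw [show g₀ * z₀ * g₀⁻¹ * (g₀ * y * g₀⁻¹) = g₀ * (z₀ * y) * g₀⁻¹ by group]
        exact Ga.mul_mem (Ga.mul_mem hg₀ hd) (Ga.inv_mem hg₀)
      refine ⟨x' * (g₀ * y * g₀⁻¹)⁻¹, T.mul_mem hx' (T.inv_mem hy'), ?_⟩
      show _ = (x' * (g₀ * z₀ * g₀⁻¹)) • a
      have e : x' * (g₀ * z₀ * g₀⁻¹) =
          x' * (g₀ * y * g₀⁻¹)⁻¹ * ((g₀ * z₀ * g₀⁻¹) * (g₀ * y * g₀⁻¹)) := by
        rw [(hR _ hz _ hy' : Commute (g₀ * z₀ * g₀⁻¹) (g₀ * y * g₀⁻¹)).eq]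
        group
      rw [e]
      exact (mul_smul (x' * (g₀ * y * g₀⁻¹)⁻¹) _ a ▸ (congrArg _ (mem_stab.1 hd')).symm)
    · intro g hg
      rcases htwo g with e | e
      · exact Or.inl fun x hx => e ▸ mem_cj hx
      · refine Or.inr fun x hx t ht => hR _ (hgR g (fun e' => hj.1 ?_) (mem_cj hx)) t ht
        rw [← e, e']
    · intro u hu
      obtain ⟨-, y, hy, hd⟩ := hU1 u hu
      refine ⟨u * y, hd, fun x hx => ?_⟩
      calc u * y * x * (u * y)⁻¹ = u * (y * x) * y⁻¹ * u⁻¹ := by group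
        _ = u * (x * y) * y⁻¹ * u⁻¹ := by rw [(hR y hy x hx).eq]
        _ = _ := by group
  push Not at htwo
  obtain ⟨k, hk1, hk2⟩ := htwo
  let W : Subgroup G := T ⊔ cj T j
  have hH : ∀ h ∈ Ga, (cj T h = T ∨ cj T h = cj T j) → h ∈ Subgroup.normalizer (W : Set G) := by
    intro h hh hcase
    refine mem_normalizer_of_conj fun x hx => ?_
    have hle : cj W h ≤ W := by
      rw [show cj W h = cj T h ⊔ cj (cj T j) h from Subgroup.map_sup _ _ _]
      rcases hcase with e | e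
      · rw [e, hkeep h hh e]
      · rw [e, hswap h hh e, sup_comm]
    exact hle (mem_cj hx)
  refine hsmall m hm hm1 (Ga ⊓ Subgroup.normalizer (W : Set G)) ?_ inf_le_left ?_ ?_
  · rintro h ⟨hh, hh'⟩
    refine ⟨hh, hH h hh ?_⟩
    by_cases e : cj T h = T
    · exact Or.inl e
    · exact Or.inr (huniqT _ _ (hmove h hh hh' e) hj)
  · intro hall
    obtain ⟨k', hk', e⟩ := hGaT k
    have hW : cj T k ≤ W := by
      rw [← e]
      rintro _ ⟨x, hx, rfl⟩
      exact (Subgroup.mem_normalizer_iff.1 (hall.ge hk').2 x).1 (Subgroup.mem_sup_left hx)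
    obtain ⟨x, hx, y, hy, hxy⟩ := hTna
    have hc : W ≤ Subgroup.centralizer {k * x * k⁻¹} := sup_le
      (fun w hw => Subgroup.mem_centralizer_singleton_iff.2
        (hcomm 1 k (by rw [cj_one]; exact Ne.symm hk1) w (by rwa [cj_one]) _ (mem_cj hx)))
      (fun w hw => Subgroup.mem_centralizer_singleton_iff.2 (hcomm j k (Ne.symm hk2) w hw _ (mem_cj hx)))
    have := Subgroup.mem_centralizer_singleton_iff.1 (hc (hW (mem_cj hy (g := k))))
    refine hxy (mul_left_cancel (mul_right_cancel (a := k * (x * y)) (b := k⁻¹) (c := k * (y * x)) ?_))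
    calc k * (x * y) * k⁻¹ = k * x * k⁻¹ * (k * y * k⁻¹) := by group
      _ = k * y * k⁻¹ * (k * x * k⁻¹) := this.symm
      _ = _ := by group
  · exact fun d hd => ⟨hd.2, mem_normalizer_of_conj fun x hx => by
      have hle : cj W d ≤ W := by
        rw [show cj W d = cj T d ⊔ cj (cj T j) d from Subgroup.map_sup _ _ _]
        refine sup_le_sup ?_ ?_
        · rintro _ ⟨z, hz, rfl⟩; exact (Subgroup.mem_normalizer_iff.1 (hMT hd.1) z).1 hz
        · rintro _ ⟨z, hz, rfl⟩; exact hMcj j d hd.1 z hz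
      exact hle (mem_cj hx)⟩

theorem setup_of_extremely [FaithfulSMul G Ω] [IsPreprimitive G Ω] [Nontrivial Ω] (a : Ω)
    (hep : ∀ α ω : Ω, IsPreprimitive (stabilizer G α) (orbit (stabilizer G α) ω)) : Setup G a where
  coatom := IsPreprimitive.isCoatom_stabilizer_of_isPreprimitive (G := G) a
  trans := normal_transitive a
  faith := fun g hg => FaithfulSMul.eq_of_smul_eq_smul (α := Ω) fun x => by rw [hg, one_smul]
  orbit := by
    intro b H h1 h2 h3
    rcases subsingleton_or_nontrivial (orbit (stabilizer G a) b) with hs | hn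
    · intro g hg
      have := hs.elim ⟨(⟨g, h2 hg⟩ : stabilizer G a) • b, mem_orbit _ _⟩ ⟨b, mem_orbit_self b⟩
      exact congrArg Subtype.val this
    haveI := hep a b
    have hco := IsPreprimitive.isCoatom_stabilizer_of_isPreprimitive (G := stabilizer G a)
      (⟨b, mem_orbit_self b⟩ : orbit (stabilizer G a) b)
    have hle : stabilizer (stabilizer G a) (⟨b, mem_orbit_self b⟩ : orbit (stabilizer G a) b) ≤
        H.subgroupOf (stabilizer G a) := fun g hg =>
      Subgroup.mem_subgroupOf.2 (h1 ⟨g.2, congrArg Subtype.val hg⟩)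
    rcases hco.le_iff.1 hle with h | h
    · exact absurd (le_antisymm h2 (Subgroup.subgroupOf_eq_top.1 h)) h3
    · intro g hg
      have hmem : (⟨g, h2 hg⟩ : stabilizer G a) ∈ H.subgroupOf (stabilizer G a) := Subgroup.mem_subgroupOf.2 hg
      rw [h] at hmem
      exact congrArg Subtype.val hmem

end Cfsg.Agent.Lie.ExtPrim
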